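import Cfsg.Agent.Lib.Schur.AltSixSeven.Main
import Cfsg.Agent.Lib.Schur.Perfect
import Cfsg.Agent.Lib.Linear.SLPerfect
import Cfsg.Agent.Lib.Linear.SLBasic
import Cfsg.Agent.S0254

/-!
# The multiplier of `SL₂(9)`
-/

set_option autoImplicit false

namespace Cfsg.Lib.Schur.AltSixSeven

open Subgroup Cfsg.Lib.Schur
open scoped commutatorElement

theorem card_eq_mul_ker {A B : Type*} [Group A] [Group B] (f : A →* B) (hf : Function.Surjective f) :
    Nat.card A = Nat.card B * Nat.card f.ker := by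
  rw [Subgroup.card_eq_card_quotient_mul_card_subgroup f.ker,
    Nat.card_congr (QuotientGroup.quotientKerEquivOfSurjective f hf).toEquiv]

theorem multiplier_SL {F : Type*} [Field F] [Fintype F] (hF : Fintype.card F = 9) :
    HasCyclicSchurMultiplier (Matrix.SpecialLinearGroup (Fin 2) F) 3 := by
  classical
  set G := Matrix.SpecialLinearGroup (Fin 2) F
  haveI : Finite G := Finite.of_injective _ Subtype.val_injective
  obtain ⟨e⟩ := Cfsg.Agent.S0254.result hF
  let τ : G →* alternatingGroup (Fin 6) := e.toMonoidHom.comp (QuotientGroup.mk' (Subgroup.center G))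
  have hτs : Function.Surjective τ := e.surjective.comp (QuotientGroup.mk'_surjective _)
  have hτk : τ.ker = Subgroup.center G := by
    ext x
    simp only [τ, MonoidHom.mem_ker, MonoidHom.comp_apply, MulEquiv.coe_toMonoidHom, QuotientGroup.mk'_apply]
    exact ⟨fun h => (QuotientGroup.eq_one_iff x).1 (e.injective (h.trans (map_one e).symm)),
      fun h => (congrArg e ((QuotientGroup.eq_one_iff x).2 h)).trans (map_one e)⟩
  have hperf : commutator G = ⊤ := Cfsg.Lib.Linear.commutator_SL_eq_top' (Or.inr (by omega))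
  have hτ : IsStemExtension τ := ⟨hτs, hτk.le, hperf ▸ le_top⟩
  have hτc : Nat.card τ.ker = 2 := by
    rw [hτk, Cfsg.Lib.Linear.card_center_SL, hF, Fintype.card_fin]; rfl
  have hG := card_eq_mul_ker τ hτs
  rw [hτc] at hG
  haveI : Finite (M G) := finite_of_has (hasSchurMultiplier (Q := G))
  have hA : Nat.card (M (alternatingGroup (Fin 6))) = 6 := Nat.dvd_antisymm card_M_six (six_dvd_fin finSumFinEquiv six_dvd_four)
  have hup : Nat.card (M G) ∣ 3 := by
    obtain ⟨⟨Γ, _, _, σ, hσ, ⟨i⟩⟩, -⟩ := hasSchurMultiplier (Q := G)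
    have hΓ : commutator Γ = ⊤ := by
      refine top_le_iff.1 fun x _ => ?_
      have hx : σ x ∈ (commutator Γ).map σ := by
        rw [_root_.commutator_def, Subgroup.map_commutator, map_top_of_surjective _ hσ.1, ← _root_.commutator_def,
          hperf]
        exact mem_top _
      obtain ⟨y, hy, hyx⟩ := hx
      have hk : y⁻¹ * x ∈ σ.ker := by rw [MonoidHom.mem_ker, map_mul, map_inv, hyx, inv_mul_cancel]
      rw [show x = y * (y⁻¹ * x) by group]
      exact mul_mem hy (hσ.2.2 hk)
    have hP : Group.IsPerfect Γ := (Group.isPerfect_def).2 hΓ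
    have hρ : IsStemExtension (τ.comp σ) := by
      refine ⟨hτs.comp hσ.1, fun g hg => ?_, hΓ ▸ le_top⟩
      refine mem_center_of_forall_commutator hP fun x => hσ.2.1 ?_
      show σ ⁅g, x⁆ = 1
      rw [map_commutatorElement]
      exact commutatorElement_eq_one_iff_mul_comm.2 (mem_center_iff.1 (hτk ▸ hg) (σ x)).symm
    obtain ⟨ψ, hψ⟩ := exists_mult_surjection (canon (alternatingGroup (Fin 6))) hρ canon_surjective
    have hd : Nat.card (τ.comp σ).ker ∣ 6 := (Subgroup.card_dvd_of_surjective ψ hψ).trans (dvd_of_eq hA)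
    have h1 := card_eq_mul_ker (τ.comp σ) (hτs.comp hσ.1)
    have h2 := card_eq_mul_ker σ hσ.1
    rw [h1, hG, mul_assoc, Nat.card_congr i.toEquiv] at h2
    have h3 := Nat.eq_of_mul_eq_mul_left Nat.card_pos h2
    rw [h3, show (6 : ℕ) = 2 * 3 from rfl] at hd
    exact Nat.dvd_of_mul_dvd_mul_left (by norm_num) hd
  have hlow : 3 ∣ Nat.card (M G) := by
    obtain ⟨Γ, _, _, σ, hσ, ⟨i⟩, β, hβ, hβσ⟩ :=
      exists_cover_over (canon (alternatingGroup (Fin 6))) canon_surjective hτ
    have hk : β.ker ≤ σ.ker := fun x hx => by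
      rw [MonoidHom.mem_ker, ← hβσ, MonoidHom.comp_apply, MonoidHom.mem_ker.1 hx, map_one]
    have hβstem : IsStemExtension β := ⟨hβ, hk.trans hσ.2.1, hk.trans hσ.2.2⟩
    obtain ⟨ψ, hψ⟩ := exists_mult_surjection (canon G) hβstem canon_surjective
    have h1 := card_eq_mul_ker σ hσ.1
    have h2 := card_eq_mul_ker β hβ
    rw [h1, hG, mul_assoc, Nat.card_congr i.toEquiv, hA] at h2
    have h3 := Nat.eq_of_mul_eq_mul_left Nat.card_pos h2
    have h4 : Nat.card β.ker = 3 := by omega
    exact h4 ▸ Subgroup.card_dvd_of_surjective ψ hψ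
  have hc : Nat.card (M G) = 3 := Nat.dvd_antisymm hup hlow
  haveI := Fact.mk Nat.prime_three
  exact hasMult_of_card (isCyclic_of_prime_card hc) hc

end Cfsg.Lib.Schur.AltSixSeven
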