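import Mathlib
import Cfsg.Agent.S3953
import Cfsg.Agent.S3951
import Cfsg.Agent.S3965
import Cfsg.Agent.S3979

/-!
# The multiplier of the alternating groups of degree six and seven has order dividing six
-/

set_option autoImplicit false
set_option maxRecDepth 100000

namespace Cfsg.Lib.Schur.AltSixSeven

open Subgroup Equiv

theorem hasSchur_congr {G H : Type} [Group G] [Finite G] [Group H] (e : G ≃* H) {A : Type} [CommGroup A]
    (h : HasSchurMultiplier G A) : HasSchurMultiplier H A := by
  have hk : ∀ {Γ : Type} [Group Γ] {X Y : Type} [Group X] [Group Y] (f : X ≃* Y) (σ : Γ →* X),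
      (f.toMonoidHom.comp σ).ker = σ.ker := fun f σ => by
    ext x; simp [MonoidHom.mem_ker]
  obtain ⟨⟨Γ, _, _, σ, ⟨h1, h2, h3⟩, ⟨i⟩⟩, hu⟩ := h
  refine ⟨⟨Γ, inferInstance, inferInstance, e.toMonoidHom.comp σ, ⟨e.surjective.comp h1, by rwa [hk], by rwa [hk]⟩,
    ⟨(MulEquiv.subgroupCongr (hk e σ)).trans i⟩⟩, fun Δ _ _ τ ⟨t1, t2, t3⟩ => ?_⟩
  obtain ⟨π, hπ⟩ := hu Δ (e.symm.toMonoidHom.comp τ) ⟨e.symm.surjective.comp t1, by rwa [hk], by rwa [hk]⟩
  exact ⟨(MulEquiv.subgroupCongr (hk e.symm τ)).toMonoidHom.comp π,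
    (MulEquiv.subgroupCongr (hk e.symm τ)).surjective.comp hπ⟩

theorem factorization_le {G : Type} [Group G] [Finite G] (p : ℕ) [Fact p.Prime] (P : Sylow p G) {B : Type}
    [CommGroup B] [Finite B] (hB : HasSchurMultiplier P B) :
    p ^ (Nat.card (M G)).factorization p ∣ Nat.card B := by
  haveI : Finite (M G) := finite_of_has (hasSchurMultiplier (Q := G))
  obtain ⟨C, D, -, -, ⟨e⟩⟩ := Cfsg.Agent.S3953.result p P (hasSchurMultiplier (Q := G)) hB
  obtain ⟨S⟩ : Nonempty (Sylow p (M G)) := inferInstance
  rw [← Sylow.card_eq_multiplicity S]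
  refine (Subgroup.card_dvd_of_le (K := CommGroup.primaryComponent (M G) p) fun x hx => ?_).trans ?_
  · obtain ⟨k, hk⟩ := S.isPGroup' ⟨x, hx⟩
    exact ⟨k, congrArg Subtype.val hk⟩
  · rw [Nat.card_congr e.toEquiv]
    exact Subgroup.card_subgroup_dvd_card C

theorem factorization_zero {G : Type} [Group G] [Finite G] (p : ℕ) [hp : Fact p.Prime]
    (h : (Nat.card G).factorization p ≤ 1) : (Nat.card (M G)).factorization p = 0 := by
  obtain ⟨P⟩ : Nonempty (Sylow p G) := inferInstance
  haveI : IsCyclic P := by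
    have hc := P.card_eq_multiplicity
    rcases Nat.le_one_iff_eq_zero_or_eq_one.1 h with h0 | h1
    · rw [h0, pow_zero] at hc
      haveI := (Nat.card_eq_one_iff_unique.1 hc).1
      infer_instance
    · rw [h1, pow_one] at hc
      exact isCyclic_of_prime_card hc
  have := factorization_le p P (Cfsg.Agent.S3979.result (G := P))
  rw [show Nat.card (Multiplicative (ZMod 1)) = 1 from by simp, Nat.dvd_one] at this
  exact (Nat.pow_eq_one.1 this).resolve_left hp.out.one_lt.ne'

/-- A subgroup isomorphic to a model of Sylow order gives the bound. -/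
theorem factorization_le_of_hom {G R : Type} [Group G] [Finite G] [Group R] [Finite R] (p : ℕ) [hp : Fact p.Prime]
    (f : R →* G) (hf : Function.Injective f) (hR : Nat.card R = p ^ (Nat.card G).factorization p)
    (hB : HasCyclicSchurMultiplier R p) : (Nat.card (M G)).factorization p ≤ 1 := by
  have hcard : Nat.card f.range = p ^ (Nat.card G).factorization p := by
    rw [← Nat.card_congr (MonoidHom.ofInjective hf).toEquiv, hR]
  let P : Sylow p G := Sylow.ofCard f.range hcard
  have hB' : HasSchurMultiplier P (Multiplicative (ZMod p)) :=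
    hasSchur_congr ((MonoidHom.ofInjective hf).trans (MulEquiv.subgroupCongr rfl)) hB
  haveI : NeZero p := ⟨hp.out.ne_zero⟩
  have := factorization_le p P hB'
  rw [show Nat.card (Multiplicative (ZMod p)) = p from (Nat.card_congr Multiplicative.toAdd).trans (Nat.card_zmod p)] at this
  by_contra hlt
  have h2 : p ^ 2 ∣ p := (pow_dvd_pow p (by omega)).trans this
  exact absurd (Nat.le_of_dvd hp.out.pos h2) (by nlinarith [hp.out.two_le])

/-- The dihedral group of order eight as a set of permutations. -/
def dihFun {n : ℕ} (r s : Perm (Fin n)) : DihedralGroup 4 → Perm (Fin n)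
  | .r i => r ^ i.val
  | .sr i => s * r ^ i.val

/-- The quadrangle rotation in degree six. -/
def rotSix : Perm (Fin 6) := swap 0 1 * swap 1 2 * swap 2 3 * swap 4 5
/-- The quadrangle reflection in degree six. -/
def refSix : Perm (Fin 6) := swap 0 2 * swap 4 5
/-- The quadrangle rotation in degree seven. -/
def rotSeven : Perm (Fin 7) := swap 0 1 * swap 1 2 * swap 2 3 * swap 4 5
/-- The quadrangle reflection in degree seven. -/
def refSeven : Perm (Fin 7) := swap 0 2 * swap 4 5

/-- The elementary group of order nine as a set of permutations. -/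
def nineFun {n : ℕ} (a b : Perm (Fin n)) (x : Multiplicative (ZMod 3 × ZMod 3)) : Perm (Fin n) :=
  a ^ (x.toAdd.1).val * b ^ (x.toAdd.2).val

/-- The first cycle in degree six. -/
def cycSixA : Perm (Fin 6) := swap 0 1 * swap 1 2
/-- The second cycle in degree six. -/
def cycSixB : Perm (Fin 6) := swap 3 4 * swap 4 5
/-- The first cycle in degree seven. -/
def cycSevenA : Perm (Fin 7) := swap 0 1 * swap 1 2
/-- The second cycle in degree seven. -/
def cycSevenB : Perm (Fin 7) := swap 3 4 * swap 4 5

/-- The homomorphism into an alternating group of a checked function. -/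
def toAlt {R : Type} [Group R] {n : ℕ} (F : R → Perm (Fin n)) (hm : ∀ x y, F (x * y) = F x * F y)
    (hs : ∀ x, Perm.sign (F x) = 1) : R →* alternatingGroup (Fin n) :=
  MonoidHom.mk' (fun x => ⟨F x, Perm.mem_alternatingGroup.2 (hs x)⟩) fun x y => Subtype.ext (hm x y)

theorem toAlt_injective {R : Type} [Group R] {n : ℕ} (F : R → Perm (Fin n)) (hm : ∀ x y, F (x * y) = F x * F y)
    (hs : ∀ x, Perm.sign (F x) = 1) (hi : Function.Injective F) : Function.Injective (toAlt F hm hs) :=
  fun _ _ h => hi (congrArg Subtype.val h)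

theorem dihSix_mul : ∀ x y : DihedralGroup 4, dihFun rotSix refSix (x * y) = dihFun rotSix refSix x * dihFun rotSix refSix y := by decide +kernel

theorem dihSix_sign : ∀ x : DihedralGroup 4, Perm.sign (dihFun rotSix refSix x) = 1 := by decide +kernel

theorem dihSix_inj : ∀ x y : DihedralGroup 4, dihFun rotSix refSix x = dihFun rotSix refSix y → x = y := by decide +kernel

theorem nineSix_mul : ∀ x y : Multiplicative (ZMod 3 × ZMod 3), nineFun cycSixA cycSixB (x * y) = nineFun cycSixA cycSixB x * nineFun cycSixA cycSixB y := by decide +kernel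

theorem nineSix_sign : ∀ x : Multiplicative (ZMod 3 × ZMod 3), Perm.sign (nineFun cycSixA cycSixB x) = 1 := by decide +kernel

theorem nineSix_inj : ∀ x y : Multiplicative (ZMod 3 × ZMod 3), nineFun cycSixA cycSixB x = nineFun cycSixA cycSixB y → x = y := by decide +kernel

theorem dihSeven_mul : ∀ x y : DihedralGroup 4, dihFun rotSeven refSeven (x * y) = dihFun rotSeven refSeven x * dihFun rotSeven refSeven y := by decide +kernel

theorem dihSeven_sign : ∀ x : DihedralGroup 4, Perm.sign (dihFun rotSeven refSeven x) = 1 := by decide +kernel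

theorem dihSeven_inj : ∀ x y : DihedralGroup 4, dihFun rotSeven refSeven x = dihFun rotSeven refSeven y → x = y := by decide +kernel

theorem nineSeven_mul : ∀ x y : Multiplicative (ZMod 3 × ZMod 3), nineFun cycSevenA cycSevenB (x * y) = nineFun cycSevenA cycSevenB x * nineFun cycSevenA cycSevenB y := by decide +kernel

theorem nineSeven_sign : ∀ x : Multiplicative (ZMod 3 × ZMod 3), Perm.sign (nineFun cycSevenA cycSevenB x) = 1 := by decide +kernel

theorem nineSeven_inj : ∀ x y : Multiplicative (ZMod 3 × ZMod 3), nineFun cycSevenA cycSevenB x = nineFun cycSevenA cycSevenB y → x = y := by decide +kernel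

theorem fact_eq {p k m : ℕ} (hp : p.Prime) (hm : ¬ p ∣ m) : (p ^ k * m).factorization p = k := by
  rw [Nat.factorization_mul (pow_ne_zero _ hp.ne_zero) (fun h => hm (by rw [h]; exact dvd_zero p))]
  simp [hp.factorization_pow, Nat.factorization_eq_zero_of_not_dvd hm]

theorem card_alt_six : Nat.card (alternatingGroup (Fin 6)) = 360 := by
  rw [nat_card_alternatingGroup, Nat.card_fin]; rfl

theorem card_alt_seven : Nat.card (alternatingGroup (Fin 7)) = 2520 := by
  rw [nat_card_alternatingGroup, Nat.card_fin]; rfl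

theorem dvd_six {N : ℕ} (hN : N ≠ 0) (h2 : N.factorization 2 ≤ 1) (h3 : N.factorization 3 ≤ 1)
    (h : ∀ p, p.Prime → p ≠ 2 → p ≠ 3 → N.factorization p = 0) : N ∣ 6 := by
  refine (Nat.factorization_le_iff_dvd hN (by norm_num)).1 fun p => ?_
  by_cases hp : p.Prime
  · by_cases e2 : p = 2
    · subst e2
      exact h2.trans (Nat.prime_two.dvd_iff_one_le_factorization (by norm_num) |>.1 (by norm_num))
    by_cases e3 : p = 3
    · subst e3
      exact h3.trans (Nat.prime_three.dvd_iff_one_le_factorization (by norm_num) |>.1 (by norm_num))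
    rw [h p hp e2 e3]; exact Nat.zero_le _
  · rw [Nat.factorization_eq_zero_of_not_prime _ hp]; exact Nat.zero_le _

theorem fact_small {p m : ℕ} (hp : p.Prime) (hm : m ≠ 0) (h : ¬ p ^ 2 ∣ m) : m.factorization p ≤ 1 := by
  by_contra hlt
  exact h ((hp.pow_dvd_iff_le_factorization hm).2 (by omega))

theorem not_sq_dvd {p m : ℕ} (hp : p.Prime) (h2 : p ≠ 2) (h3 : p ≠ 3) (hm : m = 360 ∨ m = 2520) :
    ¬ p ^ 2 ∣ m := by
  intro hd
  have h4 : p ^ 2 ∣ 2520 := by
    rcases hm with rfl | rfl
    · exact hd.trans ⟨7, rfl⟩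
    · exact hd
  have hle := Nat.le_of_dvd (by norm_num) h4
  have hp50 : p ≤ 50 := by nlinarith
  interval_cases p <;> first | omega | norm_num at hp | norm_num at h4

theorem card_M_six : Nat.card (M (alternatingGroup (Fin 6))) ∣ 6 := by
  haveI : Finite (M (alternatingGroup (Fin 6))) := finite_of_has hasSchurMultiplier
  haveI := Fact.mk Nat.prime_two; haveI := Fact.mk Nat.prime_three
  refine dvd_six Nat.card_pos.ne' ?_ ?_ fun p hp h2 h3 => ?_
  · refine factorization_le_of_hom 2 (toAlt (dihFun rotSix refSix) dihSix_mul dihSix_sign)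
      (toAlt_injective _ _ _ dihSix_inj) ?_ (Cfsg.Agent.S3965.result 4 (by decide))
    rw [card_alt_six, Nat.card_eq_fintype_card, DihedralGroup.card]
    rw [show (360 : ℕ) = 2 ^ 3 * 45 from rfl, fact_eq (by norm_num) (by norm_num)]
    norm_num
  · refine factorization_le_of_hom 3 (toAlt (nineFun cycSixA cycSixB) nineSix_mul nineSix_sign)
      (toAlt_injective _ _ _ nineSix_inj) ?_ (Cfsg.Agent.S3951.result 3 3 dvd_rfl)
    rw [card_alt_six, Nat.card_congr Multiplicative.toAdd, Nat.card_prod, Nat.card_zmod]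
    rw [show (360 : ℕ) = 3 ^ 2 * 40 from rfl, fact_eq (by norm_num) (by norm_num)]
    norm_num
  · haveI := Fact.mk hp
    exact factorization_zero p (fact_small hp Nat.card_pos.ne' (not_sq_dvd hp h2 h3 (Or.inl card_alt_six)))

theorem card_M_seven : Nat.card (M (alternatingGroup (Fin 7))) ∣ 6 := by
  haveI : Finite (M (alternatingGroup (Fin 7))) := finite_of_has hasSchurMultiplier
  haveI := Fact.mk Nat.prime_two; haveI := Fact.mk Nat.prime_three
  refine dvd_six Nat.card_pos.ne' ?_ ?_ fun p hp h2 h3 => ?_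
  · refine factorization_le_of_hom 2 (toAlt (dihFun rotSeven refSeven) dihSeven_mul dihSeven_sign)
      (toAlt_injective _ _ _ dihSeven_inj) ?_ (Cfsg.Agent.S3965.result 4 (by decide))
    rw [card_alt_seven, Nat.card_eq_fintype_card, DihedralGroup.card]
    rw [show (2520 : ℕ) = 2 ^ 3 * 315 from rfl, fact_eq (by norm_num) (by norm_num)]
    norm_num
  · refine factorization_le_of_hom 3 (toAlt (nineFun cycSevenA cycSevenB) nineSeven_mul nineSeven_sign)
      (toAlt_injective _ _ _ nineSeven_inj) ?_ (Cfsg.Agent.S3951.result 3 3 dvd_rfl)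
    rw [card_alt_seven, Nat.card_congr Multiplicative.toAdd, Nat.card_prod, Nat.card_zmod]
    rw [show (2520 : ℕ) = 3 ^ 2 * 280 from rfl, fact_eq (by norm_num) (by norm_num)]
    norm_num
  · haveI := Fact.mk hp
    exact factorization_zero p (fact_small hp Nat.card_pos.ne' (not_sq_dvd hp h2 h3 (Or.inr card_alt_seven)))

end Cfsg.Lib.Schur.AltSixSeven
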