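import Cfsg.Agent.Lib.Schur.AltSixSeven.Lift
import Cfsg.Agent.Lib.Schur.AltSixSeven.Bound
import Cfsg.Agent.Lib.Schur.AltSixSeven.Data

/-!
# The multipliers of the alternating groups of degree six and seven
-/

set_option autoImplicit false
set_option maxRecDepth 100000

namespace Cfsg.Lib.Schur.AltSixSeven

open Subgroup Cfsg.Lib.Linear.ShortPres.Alt
open scoped commutatorElement

/-- A table as a map on `Fin m`. -/
def tget' (m : ℕ) [NeZero m] (t : List ℕ) (x : Fin m) : Fin m := Fin.ofNat m (t.getD x.val 0)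

theorem tabThree_cube : ∀ (i : Fin 5) (x : Fin 45), tget' 45 (tabThree.getD i.val [])
    (tget' 45 (tabThree.getD i.val []) (tget' 45 (tabThree.getD i.val []) x)) = x := by decide +kernel

theorem tabTwo_cube : ∀ (i : Fin 5) (x : Fin 240), tget' 240 (tabTwo.getD i.val [])
    (tget' 240 (tabTwo.getD i.val []) (tget' 240 (tabTwo.getD i.val []) x)) = x := by decide +kernel

theorem cenThree_cube : ∀ x : Fin 45, tget' 45 cenThree (tget' 45 cenThree (tget' 45 cenThree x)) = x := by
  decide +kernel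

theorem cenTwo_sq : ∀ x : Fin 240, tget' 240 cenTwo (tget' 240 cenTwo x) = x := by decide +kernel

/-- The lifts with centre of order three. -/
def liftThree (i : Fin 5) : Equiv.Perm (Fin 45) where
  toFun := tget' 45 (tabThree.getD i.val [])
  invFun x := tget' 45 (tabThree.getD i.val []) (tget' 45 (tabThree.getD i.val []) x)
  left_inv := tabThree_cube i
  right_inv := tabThree_cube i

/-- The centre of order three. -/
def zThree : Equiv.Perm (Fin 45) where
  toFun := tget' 45 cenThree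
  invFun x := tget' 45 cenThree (tget' 45 cenThree x)
  left_inv := cenThree_cube
  right_inv := cenThree_cube

/-- The lifts with centre of order two. -/
def liftTwo (i : Fin 5) : Equiv.Perm (Fin 240) where
  toFun := tget' 240 (tabTwo.getD i.val [])
  invFun x := tget' 240 (tabTwo.getD i.val []) (tget' 240 (tabTwo.getD i.val []) x)
  left_inv := tabTwo_cube i
  right_inv := tabTwo_cube i

/-- The centre of order two. -/
def zTwo : Equiv.Perm (Fin 240) where
  toFun := tget' 240 cenTwo
  invFun := tget' 240 cenTwo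
  left_inv := cenTwo_sq
  right_inv := cenTwo_sq

theorem zThree_ne : zThree ≠ 1 := fun h =>
  (by decide +kernel : zThree 0 ≠ 0) (by rw [h]; rfl)

theorem zTwo_ne : zTwo ≠ 1 := fun h =>
  (by decide +kernel : zTwo 0 ≠ 0) (by rw [h]; rfl)

theorem three_comm : ∀ (i : Fin 5) (x : Fin 45), (zThree * liftThree i) x = (liftThree i * zThree) x := by
  decide +kernel

theorem two_comm : ∀ (i : Fin 5) (x : Fin 240), (zTwo * liftTwo i) x = (liftTwo i * zTwo) x := by
  decide +kernel

theorem three_pow : ∀ x : Fin 45, (zThree ^ 3) x = x := by decide +kernel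

theorem two_pow : ∀ x : Fin 240, (zTwo ^ 2) x = x := by decide +kernel

theorem three_rel3 : ∀ (i : Fin 5) (x : Fin 45), (liftThree i ^ 3) x = x := by decide +kernel

theorem two_rel3 : ∀ (i : Fin 5) (x : Fin 240), (liftTwo i ^ 3) x = x := by decide +kernel

theorem three_rel2 : ∀ i j : Fin 5, i ≠ j → ∀ x : Fin 45,
    ((liftThree i * liftThree j) ^ 2) x = (zThree ^ (expThree.getD i.val []).getD j.val 0) x := by
  decide +kernel

theorem two_rel2 : ∀ i j : Fin 5, i ≠ j → ∀ x : Fin 240,
    ((liftTwo i * liftTwo j) ^ 2) x = (zTwo ^ (expTwo.getD i.val []).getD j.val 0) x := by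
  decide +kernel

/-- Inclusion of the first four indices. -/
def up (i : Fin 4) : Fin 5 := i.castSucc

theorem three_wit : ∀ x : Fin 45,
    (⁅(witThree.1.map (liftThree ∘ up)).prod, (witThree.2.map (liftThree ∘ up)).prod⁆ : Equiv.Perm (Fin 45)) x =
      zThree x := by
  decide +kernel

theorem two_wit : ∀ x : Fin 240,
    (⁅(witTwo.1.map (liftTwo ∘ up)).prod, (witTwo.2.map (liftTwo ∘ up)).prod⁆ : Equiv.Perm (Fin 240)) x =
      zTwo x := by
  decide +kernel

theorem wit_alt_four : ∀ x : Fin 4 ⊕ Fin 2,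
    (⁅(witThree.1.map cyc).prod, (witThree.2.map cyc).prod⁆ : Equiv.Perm (Fin 4 ⊕ Fin 2)) x = x ∧
    (⁅(witTwo.1.map cyc).prod, (witTwo.2.map cyc).prod⁆ : Equiv.Perm (Fin 4 ⊕ Fin 2)) x = x := by
  decide +kernel

theorem wit_alt_five : ∀ x : Fin 5 ⊕ Fin 2,
    (⁅((witThree.1.map up).map cyc).prod, ((witThree.2.map up).map cyc).prod⁆ : Equiv.Perm (Fin 5 ⊕ Fin 2)) x = x ∧
    (⁅((witTwo.1.map up).map cyc).prod, ((witTwo.2.map up).map cyc).prod⁆ : Equiv.Perm (Fin 5 ⊕ Fin 2)) x = x := by
  decide +kernel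

theorem cycA_prod {ι : Type} [DecidableEq ι] [Fintype ι] (w : List ι) :
    (((w.map cycA).prod : alternatingGroup (ι ⊕ Fin 2)) : Equiv.Perm (ι ⊕ Fin 2)) = (w.map cyc).prod := by
  rw [← Subgroup.coe_subtype, map_list_prod, List.map_map]
  rfl

theorem cycA_comm {ι : Type} [DecidableEq ι] [Fintype ι] {u v : List ι}
    (h : (⁅(u.map cyc).prod, (v.map cyc).prod⁆ : Equiv.Perm (ι ⊕ Fin 2)) = 1) :
    (⁅(u.map cycA).prod, (v.map cycA).prod⁆ : alternatingGroup (ι ⊕ Fin 2)) = 1 := by
  refine Subgroup.subtype_injective _ ?_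
  rw [map_commutatorElement, map_one, Subgroup.coe_subtype, cycA_prod, cycA_prod, h]

theorem six_dvd_four : 6 ∣ Nat.card (M (alternatingGroup (Fin 4 ⊕ Fin 2))) := by
  have h3 : 3 ∣ Nat.card (M (alternatingGroup (Fin 4 ⊕ Fin 2))) :=
    dvd_card_of_lifts Nat.prime_three (liftThree ∘ up) zThree zThree_ne (Equiv.ext three_pow)
      (fun i => Equiv.ext (three_comm (up i)))
      (fun i => by rw [show (liftThree ∘ up) i ^ 3 = 1 from Equiv.ext (three_rel3 (up i))]; exact one_mem _)
      (fun i j hij => by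
        rw [show ((liftThree ∘ up) i * (liftThree ∘ up) j) ^ 2 = _ from
          Equiv.ext (three_rel2 (up i) (up j) (fun h => hij (Fin.castSucc_injective _ h)))]
        exact Subgroup.npow_mem_zpowers _ _)
      witThree.1 witThree.2 (Equiv.ext three_wit) (cycA_comm (Equiv.ext fun x => (wit_alt_four x).1))
  have h2 : 2 ∣ Nat.card (M (alternatingGroup (Fin 4 ⊕ Fin 2))) :=
    dvd_card_of_lifts Nat.prime_two (liftTwo ∘ up) zTwo zTwo_ne (Equiv.ext two_pow)
      (fun i => Equiv.ext (two_comm (up i)))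
      (fun i => by rw [show (liftTwo ∘ up) i ^ 3 = 1 from Equiv.ext (two_rel3 (up i))]; exact one_mem _)
      (fun i j hij => by
        rw [show ((liftTwo ∘ up) i * (liftTwo ∘ up) j) ^ 2 = _ from
          Equiv.ext (two_rel2 (up i) (up j) (fun h => hij (Fin.castSucc_injective _ h)))]
        exact Subgroup.npow_mem_zpowers _ _)
      witTwo.1 witTwo.2 (Equiv.ext two_wit) (cycA_comm (Equiv.ext fun x => (wit_alt_four x).2))
  exact Nat.Coprime.mul_dvd_of_dvd_of_dvd (show Nat.Coprime 2 3 by norm_num) h2 h3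

theorem six_dvd_five : 6 ∣ Nat.card (M (alternatingGroup (Fin 5 ⊕ Fin 2))) := by
  have h3 : 3 ∣ Nat.card (M (alternatingGroup (Fin 5 ⊕ Fin 2))) :=
    dvd_card_of_lifts Nat.prime_three liftThree zThree zThree_ne (Equiv.ext three_pow)
      (fun i => Equiv.ext (three_comm i))
      (fun i => by rw [show liftThree i ^ 3 = 1 from Equiv.ext (three_rel3 i)]; exact one_mem _)
      (fun i j hij => by
        rw [show (liftThree i * liftThree j) ^ 2 = _ from Equiv.ext (three_rel2 i j hij)]
        exact Subgroup.npow_mem_zpowers _ _)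
      (witThree.1.map up) (witThree.2.map up) (by rw [List.map_map, List.map_map]; exact Equiv.ext three_wit)
      (cycA_comm (Equiv.ext fun x => (wit_alt_five x).1))
  have h2 : 2 ∣ Nat.card (M (alternatingGroup (Fin 5 ⊕ Fin 2))) :=
    dvd_card_of_lifts Nat.prime_two liftTwo zTwo zTwo_ne (Equiv.ext two_pow)
      (fun i => Equiv.ext (two_comm i))
      (fun i => by rw [show liftTwo i ^ 3 = 1 from Equiv.ext (two_rel3 i)]; exact one_mem _)
      (fun i j hij => by
        rw [show (liftTwo i * liftTwo j) ^ 2 = _ from Equiv.ext (two_rel2 i j hij)]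
        exact Subgroup.npow_mem_zpowers _ _)
      (witTwo.1.map up) (witTwo.2.map up) (by rw [List.map_map, List.map_map]; exact Equiv.ext two_wit)
      (cycA_comm (Equiv.ext fun x => (wit_alt_five x).2))
  exact Nat.Coprime.mul_dvd_of_dvd_of_dvd (show Nat.Coprime 2 3 by norm_num) h2 h3

theorem six_dvd_fin {ι : Type} [DecidableEq ι] [Fintype ι] {n : ℕ} (e : ι ⊕ Fin 2 ≃ Fin n)
    (h : 6 ∣ Nat.card (M (alternatingGroup (ι ⊕ Fin 2)))) : 6 ∣ Nat.card (M (alternatingGroup (Fin n))) := by
  obtain ⟨f, -⟩ := nonempty_congr e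
  obtain ⟨g⟩ := nonempty_equiv_of_has (hasSchur_congr f (hasSchurMultiplier (Q := alternatingGroup (ι ⊕ Fin 2))))
  rwa [Nat.card_congr g.toEquiv] at h

theorem hasMult_of_card {G : Type*} [Group G] [Finite G] {n : ℕ} [NeZero n] (hn : IsCyclic (M G))
    (h : Nat.card (M G) = n) : HasCyclicSchurMultiplier G n := by
  have hG := hasSchurMultiplier (Q := G)
  obtain ⟨⟨Γ, _, _, σ, hσ, ⟨i⟩⟩, hu⟩ := hG
  have j : M G ≃* Multiplicative (ZMod n) := h ▸ (zmodCyclicMulEquiv hn).symm
  refine ⟨⟨Γ, inferInstance, inferInstance, σ, hσ, ⟨i.trans j⟩⟩, fun Δ _ _ τ hτ => ?_⟩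
  obtain ⟨π, hπ⟩ := hu Δ τ hτ
  exact ⟨π.comp j.symm.toMonoidHom, hπ.comp j.symm.surjective⟩

theorem isCyclic_of_six {A : Type} [CommGroup A] [Finite A] (h : Nat.card A = 6) : IsCyclic A := by
  haveI := Fact.mk Nat.prime_two; haveI := Fact.mk Nat.prime_three
  obtain ⟨a, ha⟩ := exists_prime_orderOf_dvd_card' 2 (h ▸ by norm_num : 2 ∣ Nat.card A)
  obtain ⟨b, hb⟩ := exists_prime_orderOf_dvd_card' 3 (h ▸ by norm_num : 3 ∣ Nat.card A)
  refine isCyclic_of_orderOf_eq_card (a * b) ?_
  rw [(Commute.all a b).orderOf_mul_eq_mul_orderOf_of_coprime (by rw [ha, hb]; norm_num), ha, hb, h]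

theorem multiplier (n : ℕ) (hn : n = 6 ∨ n = 7) : HasCyclicSchurMultiplier (alternatingGroup (Fin n)) 6 := by
  haveI : Finite (M (alternatingGroup (Fin n))) := finite_of_has hasSchurMultiplier
  have hc : Nat.card (M (alternatingGroup (Fin n))) = 6 := by
    rcases hn with rfl | rfl
    · exact Nat.dvd_antisymm card_M_six (six_dvd_fin finSumFinEquiv six_dvd_four)
    · exact Nat.dvd_antisymm card_M_seven (six_dvd_fin finSumFinEquiv six_dvd_five)
  exact hasMult_of_card (isCyclic_of_six hc) hc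

end Cfsg.Lib.Schur.AltSixSeven
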