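import Cfsg.Agent.Lib.Schur.Basic
import Cfsg.Agent.Lib.Linear.ShortPres.Alt.Carmichael

/-!
# A prime dividing the multiplier of an alternating group, from lifts of Carmichael generators
-/

set_option autoImplicit false

namespace Cfsg.Lib.Schur.AltSixSeven

open Subgroup Cfsg.Lib.Linear.ShortPres.Alt
open scoped commutatorElement

/-- Lifts of Carmichael generators in which a commutator gives the central element. -/
theorem dvd_card_of_lifts {ι : Type} [DecidableEq ι] [Fintype ι] {C : Type} [Group C] [Finite C] {p : ℕ}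
    (hp : p.Prime) (x : ι → C) (z : C) (hz1 : z ≠ 1) (hzp : z ^ p = 1) (hzc : ∀ i, z * x i = x i * z)
    (h3 : ∀ i, x i ^ 3 ∈ zpowers z) (h2 : ∀ i j, i ≠ j → (x i * x j) ^ 2 ∈ zpowers z) (u v : List ι)
    (hC : ⁅(u.map x).prod, (v.map x).prod⁆ = z) (hA : ⁅(u.map cycA).prod, (v.map cycA).prod⁆ = 1) :
    p ∣ Nat.card (M (alternatingGroup (ι ⊕ Fin 2))) := by
  classical
  set g : ι → C × alternatingGroup (ι ⊕ Fin 2) := fun i => (x i, cycA i) with hg
  set Γ : Subgroup (C × alternatingGroup (ι ⊕ Fin 2)) := closure (Set.range g) with hΓ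
  let gΓ : ι → Γ := fun i => ⟨g i, subset_closure ⟨i, rfl⟩⟩
  let σ : Γ →* alternatingGroup (ι ⊕ Fin 2) := (MonoidHom.snd _ _).comp Γ.subtype
  have hσ : Function.Surjective σ := by
    rw [← MonoidHom.range_eq_top, MonoidHom.range_comp, range_subtype, hΓ, MonoidHom.map_closure,
      ← Set.range_comp]
    exact closure_cycA
  have hcent : ∀ w ∈ Γ, z * w.1 = w.1 * z := by
    intro w hw
    induction hw using Subgroup.closure_induction with
    | mem y hy => obtain ⟨i, rfl⟩ := hy; exact hzc i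
    | one => simp
    | mul a b _ _ ha hb => exact (Commute.mul_right ha hb : _)
    | inv a _ ha => exact (Commute.inv_right ha : _)
  let Z : Subgroup Γ := ((zpowers z).prod ⊥).comap Γ.subtype
  have hZn : Z.Normal := by
    constructor
    intro n hn c
    obtain ⟨hn1, hn2⟩ := Subgroup.mem_prod.1 hn
    simp only [Subgroup.coe_subtype] at hn1 hn2
    have hcn : (c : C × alternatingGroup (ι ⊕ Fin 2)).1 * (n : C × alternatingGroup (ι ⊕ Fin 2)).1 = (n : C × alternatingGroup (ι ⊕ Fin 2)).1 * (c : C × alternatingGroup (ι ⊕ Fin 2)).1 := by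
      obtain ⟨k, hk⟩ := mem_zpowers_iff.1 hn1
      rw [← hk]
      exact ((show Commute z (c : C × alternatingGroup (ι ⊕ Fin 2)).1 from hcent c c.2).zpow_left k).eq.symm
    refine Subgroup.mem_prod.2 ⟨?_, ?_⟩
    · show (c : C × alternatingGroup (ι ⊕ Fin 2)).1 * (n : C × alternatingGroup (ι ⊕ Fin 2)).1 * ((c : C × alternatingGroup (ι ⊕ Fin 2)).1)⁻¹ ∈ zpowers z
      rw [hcn, mul_inv_cancel_right]; exact hn1
    · show (c : C × alternatingGroup (ι ⊕ Fin 2)).2 * (n : C × alternatingGroup (ι ⊕ Fin 2)).2 * ((c : C × alternatingGroup (ι ⊕ Fin 2)).2)⁻¹ ∈ (⊥ : Subgroup _)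
      rw [Subgroup.mem_bot.1 hn2]; simp
  have hgen : closure (Set.range fun i => QuotientGroup.mk' Z (gΓ i)) = ⊤ := by
    have : closure (Set.range gΓ) = ⊤ := by
      refine map_injective Γ.subtype_injective ?_
      rw [MonoidHom.map_closure, ← Set.range_comp, ← MonoidHom.range_eq_map, range_subtype]
      rfl
    rw [show (fun i => QuotientGroup.mk' Z (gΓ i)) = QuotientGroup.mk' Z ∘ gΓ from rfl, Set.range_comp,
      ← MonoidHom.map_closure, this, map_top_of_surjective _ (QuotientGroup.mk'_surjective Z)]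
  have hrel : ∀ y : Γ, (y : C × alternatingGroup (ι ⊕ Fin 2)).1 ∈ zpowers z → (y : C × alternatingGroup (ι ⊕ Fin 2)).2 = 1 → QuotientGroup.mk' Z y = 1 :=
    fun y h1 h2 => (QuotientGroup.eq_one_iff y).2 (Subgroup.mem_prod.2 ⟨h1, Subgroup.mem_bot.2 h2⟩)
  obtain ⟨-, hle⟩ := card_le (fun i => QuotientGroup.mk' Z (gΓ i)) hgen
    (fun i => by
      rw [← map_pow]
      exact hrel _ (h3 i) (Subtype.ext (cyc_pow_three i)))
    (fun i j hij => by
      rw [← map_mul, ← map_pow]
      exact hrel _ (h2 i j hij) (Subtype.ext (cyc_pair hij)))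
  let σ' : Γ ⧸ Z →* alternatingGroup (ι ⊕ Fin 2) := QuotientGroup.lift Z σ fun y hy =>
    Subgroup.mem_bot.1 (Subgroup.mem_prod.1 hy).2
  have hσ' : Function.Surjective σ' := fun a => by
    obtain ⟨y, hy⟩ := hσ a
    exact ⟨QuotientGroup.mk y, hy⟩
  have hinj : Function.Injective σ' :=
    ((Nat.bijective_iff_surjective_and_card σ').2
      ⟨hσ', le_antisymm hle (Nat.card_le_card_of_surjective σ' hσ')⟩).1
  have hker : σ.ker = Z := by
    refine le_antisymm (fun y hy => ?_) fun y hy => Subgroup.mem_bot.1 (Subgroup.mem_prod.1 hy).2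
    have : σ' (QuotientGroup.mk y) = σ' 1 := by rw [map_one]; exact hy
    exact (QuotientGroup.eq_one_iff y).1 (hinj this)
  set c : Γ := ⁅(u.map gΓ).prod, (v.map gΓ).prod⁆ with hc
  have hcval : (c : C × alternatingGroup (ι ⊕ Fin 2)) = (z, 1) := by
    have e : ∀ w : List ι, (((w.map gΓ).prod : Γ) : C × alternatingGroup (ι ⊕ Fin 2)) = ((w.map x).prod, (w.map cycA).prod) := by
      intro w
      induction w with
      | nil => rfl
      | cons i w ih => rw [List.map_cons, List.prod_cons, Subgroup.coe_mul, ih]; rfl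
    rw [hc, commutatorElement_def, Subgroup.coe_mul, Subgroup.coe_mul, Subgroup.coe_mul, Subgroup.coe_inv,
      Subgroup.coe_inv, e u, e v]
    exact Prod.ext hC hA
  have hcK : ∀ y ∈ Z, y ∈ zpowers c := by
    intro y hy
    obtain ⟨h1, h2⟩ := Subgroup.mem_prod.1 hy
    obtain ⟨k, hk⟩ := mem_zpowers_iff.1 h1
    refine mem_zpowers_iff.2 ⟨k, Subtype.ext ?_⟩
    rw [Subgroup.coe_zpow, hcval]
    exact Prod.ext hk ((one_zpow k).trans (Subgroup.mem_bot.1 h2).symm)
  have hcZ : c ∈ Z := by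
    show (c : C × alternatingGroup (ι ⊕ Fin 2)) ∈ (zpowers z).prod ⊥
    rw [hcval]
    exact Subgroup.mem_prod.2 ⟨mem_zpowers z, one_mem _⟩
  have hstem : IsStemExtension σ := by
    refine ⟨hσ, fun y hy => ?_, fun y hy => ?_⟩
    · rw [hker] at hy
      obtain ⟨h1, h2⟩ := Subgroup.mem_prod.1 hy
      obtain ⟨k, hk⟩ := mem_zpowers_iff.1 h1
      refine mem_center_iff.2 fun w => Subtype.ext (Prod.ext ?_ ?_)
      · show (w : C × alternatingGroup (ι ⊕ Fin 2)).1 * (y : C × alternatingGroup (ι ⊕ Fin 2)).1 = (y : C × alternatingGroup (ι ⊕ Fin 2)).1 * (w : C × alternatingGroup (ι ⊕ Fin 2)).1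
        rw [show (y : C × alternatingGroup (ι ⊕ Fin 2)).1 = z ^ k from hk.symm]
        exact ((show Commute z (w : C × alternatingGroup (ι ⊕ Fin 2)).1 from hcent w w.2).zpow_left k).eq.symm
      · show (w : C × alternatingGroup (ι ⊕ Fin 2)).2 * (y : C × alternatingGroup (ι ⊕ Fin 2)).2 = (y : C × alternatingGroup (ι ⊕ Fin 2)).2 * (w : C × alternatingGroup (ι ⊕ Fin 2)).2
        rw [show (y : C × alternatingGroup (ι ⊕ Fin 2)).2 = 1 from Subgroup.mem_bot.1 h2, mul_one, one_mul]
    · rw [hker] at hy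
      obtain ⟨k, rfl⟩ := mem_zpowers_iff.1 (hcK y hy)
      exact zpow_mem (commutator_mem_commutator (mem_top _) (mem_top _)) k
  obtain ⟨ψ, hψ⟩ := exists_mult_surjection (canon (alternatingGroup (ι ⊕ Fin 2))) hstem canon_surjective
  have hord : orderOf c = p := by
    haveI := Fact.mk hp
    refine orderOf_eq_prime (Subtype.ext ?_) fun h => hz1 ?_
    · rw [Subgroup.coe_pow, hcval]
      exact Prod.ext hzp (one_pow p)
    · exact congrArg Prod.fst (hcval.symm.trans (congrArg Subtype.val h))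
  have hdvd : p ∣ Nat.card σ.ker := by
    rw [← hord, ← Nat.card_zpowers]
    refine Subgroup.card_dvd_of_le ?_
    rw [zpowers_le, hker]
    exact hcZ
  exact hdvd.trans (Subgroup.card_dvd_of_surjective ψ hψ)

end Cfsg.Lib.Schur.AltSixSeven
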